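import Groth.Agent.L17.QCohGab.Closure
import Groth.Agent.L29.DCoh.QCohColim
import Groth.Prelude.Def_QCohCat
import Mathlib.CategoryTheory.Abelian.Subcategory
import Mathlib.CategoryTheory.Abelian.GrothendieckCategory.Basic
import Mathlib.CategoryTheory.Abelian.GrothendieckCategory.EnoughInjectives
import Mathlib.CategoryTheory.Adjunction.AdjointFunctorTheorems
import Mathlib.CategoryTheory.Preadditive.LeftExact

/-!
`QCoh(X)` is a Grothendieck abelian category for every scheme; coherator.
-/

set_option autoImplicit false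
set_option linter.style.haveILetI false
set_option backward.isDefEq.respectTransparency false

universe v' u' u

open CategoryTheory CategoryTheory.Limits AlgebraicGeometry TopologicalSpace Opposite

noncomputable section

namespace Groth.L17.QCohGab

variable (X : Scheme.{u})

instance closedIso : (QCohCat.isQCoh X).IsClosedUnderIsomorphisms :=
  ⟨fun e h => Groth.L00.AlgQCoh.qcohIso e h⟩

instance closedColim (J : Type u) [SmallCategory J] : (QCohCat.isQCoh X).IsClosedUnderColimitsOfShape J :=
  ⟨fun M ⟨p⟩ => Groth.L29.DC.QCohColim.isQCoh_colimit p.diag _ p.isColimit p.prop_diag_obj⟩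

instance containsZero : (QCohCat.isQCoh X).ContainsZero := by
  let F : PEmpty.{u + 1} → X.Modules := fun i => i.elim
  exact ⟨∐ F, (IsZero.iff_id_eq_zero _).2 (Sigma.hom_ext _ _ fun i => i.elim),
    Groth.L00.AlgQCoh.isQCoh_sigma F fun i => i.elim⟩

instance closedKer : (QCohCat.isQCoh X).IsClosedUnderKernels where
  kernels_le := by
    rintro M ⟨f, k, hk, h1, h2⟩
    exact Groth.L00.AlgQCoh.qcohIso ((kernelIsKernel f).conePointUniqueUpToIso hk)
      (Groth.L00.AlgQCoh.isQCoh_kernel_cokernel f h1 h2).1

instance closedCoker : (QCohCat.isQCoh X).IsClosedUnderCokernels where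
  cokernels_le := by
    rintro M ⟨f, k, hk, h1, h2⟩
    exact Groth.L00.AlgQCoh.qcohIso ((cokernelIsCokernel f).coconePointUniqueUpToIso hk)
      (Groth.L00.AlgQCoh.isQCoh_kernel_cokernel f h1 h2).2

instance closedFinProd : (QCohCat.isQCoh X).IsClosedUnderFiniteProducts where
  isClosedUnderLimitsOfShape J _ := ⟨fun M ⟨p⟩ => by
    classical
    haveI := Fintype.ofFinite J
    haveI : HasFiniteBiproducts X.Modules := HasFiniteBiproducts.of_hasFiniteProducts
    let a : J → X.Modules := fun j => p.diag.obj ⟨j⟩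
    have h : Coh.IsQCoh (∐ fun j : ULift.{u} J => a j.down) :=
      Groth.L00.AlgQCoh.isQCoh_sigma _ fun j => p.prop_diag_obj ⟨j.down⟩
    refine Groth.L00.AlgQCoh.qcohIso ?_ h
    exact Sigma.reindex Equiv.ulift a ≪≫ (biproduct.isoCoproduct a).symm ≪≫ biproduct.isoProduct a ≪≫
      (lim.mapIso (Discrete.natIsoFunctor (F := p.diag)).symm) ≪≫
      (limit.isLimit p.diag).conePointUniqueUpToIso p.isLimit⟩

/-- `QCoh(X)` is abelian. -/
instance abelianQCoh : Abelian (QCohCat.QCoh X) := inferInstanceAs (Abelian (QCohCat.isQCoh X).FullSubcategory)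

instance preservesColimits_ι : PreservesColimitsOfSize.{u, u} (QCohCat.isQCoh X).ι :=
  ⟨fun {J} _ => inferInstance⟩

instance hasColimits_QCoh : HasColimitsOfSize.{u, u} (QCohCat.QCoh X) := ⟨fun J _ => inferInstance⟩

instance preservesFiniteLimits_ι : PreservesFiniteLimits (QCohCat.isQCoh X).ι := by
  haveI := fun {A B : QCohCat.QCoh X} (f : A ⟶ B) => (QCohCat.isQCoh X).preservesKernels_ι f
  exact Functor.preservesFiniteLimits_of_preservesKernels (QCohCat.isQCoh X).ι

/-- index of the small quasi-coherent quotients of the universal source -/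
abbrev GenIdx : Type u :=
  haveI := Groth.L00.Tensor.grothendieckAbelian_modules X
  Shrink.{u} {S : Subobject (P X) // Coh.IsQCoh (cokernel S.arrow)}

/-- the generators -/
def gen (i : GenIdx X) : QCohCat.QCoh X :=
  haveI := Groth.L00.Tensor.grothendieckAbelian_modules X
  ⟨cokernel ((equivShrink _).symm i).1.arrow, ((equivShrink _).symm i).2⟩

theorem isSeparating_gen : (ObjectProperty.ofObj (gen X)).IsSeparating := by
  haveI := Groth.L00.Tensor.grothendieckAbelian_modules X
  intro F H f g hfg
  haveI : Coh.IsQCoh F.obj := F.property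
  apply ObjectProperty.hom_ext
  refine Groth.L21.Mod.hom_ext_stalk fun x => ?_
  refine AddCommGrpCat.hom_ext (AddMonoidHom.ext fun a => ?_)
  obtain ⟨W, hxW, w, rfl⟩ := TopCat.Presheaf.exists_germ_eq F.obj.presheaf a
  obtain ⟨U, hU, hxU, hUW⟩ := exists_isAffineOpen_mem_and_subset hxW
  rw [← F.obj.presheaf.germ_res_apply (homOfLE (show U ≤ W from hUW)) x hxU w]
  generalize F.obj.presheaf.map (homOfLE (show U ≤ W from hUW)).op w = s
  classical
  let seed : ∀ V : X.affineOpens, Γ(F.obj, V.1) := Function.update 0 ⟨U, hU⟩ s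
  let π := Abelian.factorThruImage (Φ seed)
  let S : Subobject (P X) := Subobject.mk (kernel.ι π)
  let eS : cokernel S.arrow ≅ Gab seed :=
    cokernel.mapIso S.arrow (kernel.ι π) (Subobject.underlyingIso _) (Iso.refl _) (by simp [S]) ≪≫
      (cokernelIsCokernel (kernel.ι π)).coconePointUniqueUpToIso (Abelian.epiIsCokernelOfKernel (KernelFork.ofι (kernel.ι π) (kernel.condition π)) (kernelIsKernel π))
  let i : GenIdx X := equivShrink _ ⟨S, Groth.L00.AlgQCoh.qcohIso eS.symm (isQCoh_Gab seed)⟩
  have hi : (gen X i).obj = cokernel S.arrow :=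
    congrArg (fun T : {S : Subobject (P X) // Coh.IsQCoh (cokernel S.arrow)} => cokernel T.1.arrow)
      (Equiv.symm_apply_apply _ _)
  let h : gen X i ⟶ F := ObjectProperty.homMk (eqToHom hi ≫ eS.hom ≫ Abelian.image.ι (Φ seed))
  have key := congrArg (fun k => k.hom) (hfg _ ⟨i⟩ h)
  have key' : Abelian.image.ι (Φ seed) ≫ f.hom = Abelian.image.ι (Φ seed) ≫ g.hom := by
    simpa [h, cancel_epi] using key
  have hs : seed ⟨U, hU⟩ = s := Function.update_self _ _ _
  have key2 : ext F.obj U s ≫ f.hom = ext F.obj U s ≫ g.hom := by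
    have h0 := ext_seed seed ⟨U, hU⟩
    rw [hs] at h0
    simp only [← h0, Category.assoc]
    rw [key']
  obtain ⟨a, ha⟩ := (range_stalk_ext F.obj s hxU).ge (Submodule.subset_span rfl)
  have h3 := LinearMap.congr_fun (congrArg ModuleCat.Hom.hom
    (congrArg (Groth.L00.Stk.F X x).map key2)) a
  rw [Functor.map_comp, Functor.map_comp] at h3
  simp only [ModuleCat.hom_comp, LinearMap.comp_apply, ha] at h3
  exact h3

/-- `QCoh(X)` is Grothendieck abelian. -/
theorem isGrothendieckAbelian : IsGrothendieckAbelian.{u} (QCohCat.QCoh X) := by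
  haveI := Groth.L00.Tensor.grothendieckAbelian_modules X
  haveI : HasSeparator (QCohCat.QCoh X) := ⟨⟨_, (isSeparating_gen X).isSeparator_coproduct⟩⟩
  exact { ab5OfSize := ⟨fun J _ _ => HasExactColimitsOfShape.domain_of_functor J (QCohCat.isQCoh X).ι⟩ }

/-- colimit preserving functors out of `QCoh(X)` are left adjoints -/
theorem isLeftAdjoint_of_preservesColimits {A : Type u'} [Category.{u} A] (F : QCohCat.QCoh X ⥤ A)
    [PreservesColimitsOfSize.{u, u} F] : F.IsLeftAdjoint := by
  haveI := isGrothendieckAbelian X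
  exact isLeftAdjoint_of_preservesColimits_of_isSeparating (isSeparating_gen X) F

end Groth.L17.QCohGab
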