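import Groth.Agent.L17.QCohGab.Groth
import Groth.Agent.L15.LocPres.QcSpace
import Groth.Agent.L19.FPExtend.Colim
import Groth.Agent.L19.FPExtend.Ops
import Groth.Agent.L00.ModSiteTensor
import Mathlib.CategoryTheory.Presentable.Finite

/-!
Finitely presentable objects of `QCoh(X)`.
-/

set_option autoImplicit false
set_option linter.style.haveILetI false
set_option backward.isDefEq.respectTransparency false

universe u

open CategoryTheory CategoryTheory.Limits AlgebraicGeometry TopologicalSpace Opposite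

noncomputable section

namespace Groth.L17.QCohGab

variable (X : Scheme.{u}) [CompactSpace X] [QuasiSeparatedSpace X]

theorem exists_finite_refinement (ι : Type u) (V : ι → Opens X) (hV : iSup V = ⊤) :
    ∃ (J : Type u) (_ : Finite J) (U : J → Opens X), iSup U = ⊤ ∧ (∀ j, ∃ i, U j ≤ V i) ∧
      ∀ j j', IsCompact ((U j ⊓ U j' : Opens X) : Set X) := by
  have h : ∀ x : X, ∃ U : X.Opens, IsAffineOpen U ∧ x ∈ U ∧ ∃ i, U ≤ V i := fun x => by
    obtain ⟨i, hi⟩ := Opens.mem_iSup.1 (show x ∈ iSup V by rw [hV]; trivial)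
    obtain ⟨U, hU, hxU, hUV⟩ := exists_isAffineOpen_mem_and_subset hi
    exact ⟨U, hU, hxU, i, hUV⟩
  choose U hU hxU i hi using h
  obtain ⟨t, ht⟩ := (isCompact_univ (X := X)).elim_finite_subcover (fun x => (U x : Set X)) (fun x => (U x).2)
    fun x _ => Set.mem_iUnion.2 ⟨x, hxU x⟩
  refine ⟨t, inferInstance, fun x => U x.1, top_le_iff.1 fun x _ => ?_, fun x => ⟨i x.1, hi x.1⟩, fun a b => ?_⟩
  · obtain ⟨y, hy, hxy⟩ := Set.mem_iUnion₂.1 (ht (Set.mem_univ x))
    exact Opens.mem_iSup.2 ⟨⟨y, hy⟩, hxy⟩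
  · exact QuasiSeparatedSpace.inter_isCompact _ _ (U a.1).2 (hU a.1).isCompact (U b.1).2 (hU b.1).isCompact

theorem preservesColimit_coyoneda_modules (F : X.Modules) (hF : CohB1.IsFP F) {Λ : Type u} [SmallCategory Λ]
    [IsFiltered Λ] (D : Λ ⥤ X.Modules) : PreservesColimit D (coyoneda.obj (op F)) := by
  haveI := Groth.L00.Tensor.grothendieckAbelian_modules X
  let F' : ModSite.Mod X.sheaf := F
  let D' : Λ ⥤ ModSite.Mod X.sheaf := D
  haveI : SheafOfModules.IsFinitePresentation (R := ModSite.ringSh X.sheaf) F' := hF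
  haveI := Groth.L00.ModSiteTensor.hasSheafHom F'
  obtain ⟨h⟩ := Groth.L15.LocPres.nonempty_isColimit_sheafHom F' (colimit.isColimit D')
  exact Groth.L15.LocPres.preservesColimit_coyoneda F' (colimit.isColimit D')
    (Groth.L15.LocPres.gLift_space (exists_finite_refinement X) h)
    (Groth.L15.LocPres.gZero_space (exists_finite_refinement X) h)

/-- homs in `QCoh` are homs of modules -/
def coyonedaIso (F : QCohCat.QCoh X) :
    (QCohCat.isQCoh X).ι ⋙ coyoneda.obj (op F.obj) ≅ coyoneda.obj (op F) :=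
  NatIso.ofComponents (fun G => ((QCohCat.isQCoh X).fullyFaithfulι.homEquiv).symm.toIso) fun {G H} g => by
    ext f
    rfl

theorem isFinitelyPresentable_of_isFP (F : QCohCat.QCoh X) (hF : CohB1.IsFP F.obj) :
    IsFinitelyPresentable.{u} F := by
  rw [isFinitelyPresentable_iff_preservesFilteredColimitsOfSize]
  refine ⟨fun J _ _ => ⟨fun {D} => ?_⟩⟩
  haveI := preservesColimit_coyoneda_modules X F.obj hF (D ⋙ (QCohCat.isQCoh X).ι)
  exact preservesColimit_of_natIso D (coyonedaIso X F)

theorem isFP_of_isFinitelyPresentable (F : QCohCat.QCoh X) [IsFinitelyPresentable.{u} F] :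
    CohB1.IsFP F.obj := by
  haveI : Coh.IsQCoh F.obj := F.property
  obtain ⟨I, _, _, D, c, hc, hfp, hpt⟩ := Groth.L19.FPExtend.exists_isColimit_fp F.obj
  obtain ⟨pt, ι⟩ := c
  cases hpt
  let D' : I ⥤ QCohCat.QCoh X := (QCohCat.isQCoh X).lift D fun i => Groth.L05.Prufer.isQCoh_of_isFP (hfp i)
  let c' : Cocone D' := ⟨F, { app := fun i => ObjectProperty.homMk (ι.app i)
                              naturality := fun i j f => ObjectProperty.hom_ext _ (by simpa [D'] using ι.naturality f) }⟩
  have hc' : IsColimit c' := isColimitOfReflects (QCohCat.isQCoh X).ι (IsColimit.ofIsoColimit hc (Cocone.ext (Iso.refl _)))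
  obtain ⟨i, p, hp⟩ := IsFinitelyPresentable.exists_hom_of_isColimit hc' (𝟙 F)
  have h : p.hom ≫ ι.app i = 𝟙 F.obj := congrArg (fun k => k.hom) hp
  let e : D.obj i ⟶ D.obj i := 𝟙 _ - ι.app i ≫ p.hom
  have hp' : e ≫ ι.app i = 0 := by simp [e, h]
  let iso : cokernel e ≅ F.obj :=
    { hom := cokernel.desc e (ι.app i) hp'
      inv := p.hom ≫ cokernel.π e
      hom_inv_id := by
        apply coequalizer.hom_ext
        have := cokernel.condition e
        simp only [e, Preadditive.sub_comp, sub_eq_zero, Category.id_comp, Category.assoc] at this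
        rw [← Category.assoc, cokernel.π_desc]
        exact this.symm.trans (Category.comp_id _).symm
      inv_hom_id := by simp [h] }
  exact (SheafOfModules.isFinitePresentation X.ringCatSheaf).prop_of_iso iso
    (Groth.L19.FPExtend.isFP_cokernel (hfp i) (hfp i) e)

end Groth.L17.QCohGab
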