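import Groth.Agent.L29.DCoh.ExtZero
import Groth.Agent.L16.ProjSpace.Twist
import Groth.Agent.L00.AlgQCoh
import Groth.Agent.L20.ModStalk
import Groth.Agent.L19.ConormalAffine
import Groth.Agent.L21.Mod.Locality
import Mathlib.CategoryTheory.Abelian.Images

/-!
Small quasi-coherent submodules through prescribed sections (Gabber).
-/

set_option autoImplicit false
set_option linter.style.haveILetI false
set_option backward.isDefEq.respectTransparency false

universe u

open CategoryTheory CategoryTheory.Limits AlgebraicGeometry TopologicalSpace Opposite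

noncomputable section

namespace Groth.L17.QCohGab

variable {X : Scheme.{u}}

/-- `j_!O_U` -/
abbrev EZ (U : X.Opens) : X.Modules := (CxOX.extZero U.ι).obj (Coh.structureModule (U : Scheme.{u}))

/-- a section over `U` as a global section of the restriction -/
def sec0 (M : X.Modules) (U : X.Opens) (s : Γ(M, U)) : Γ(M.restrict U.ι, ⊤) :=
  M.presheaf.map (homOfLE U.ι_image_top.le).op s

/-- the map `j_!O_U ⟶ M` of a section -/
def ext (M : X.Modules) (U : X.Opens) (s : Γ(M, U)) : EZ U ⟶ M :=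
  ((CxOX.extZeroAdj U.ι).homEquiv _ _).symm (Groth.L16.homOfSection _ (sec0 M U s))

theorem ext_fac (M : X.Modules) (U : X.Opens) (s : Γ(M, U)) :
    (CxOX.extZeroAdj U.ι).unit.app (Coh.structureModule (U : Scheme.{u})) ≫
      (Scheme.Modules.restrictFunctor U.ι).map (ext M U s) = Groth.L16.homOfSection _ (sec0 M U s) := by
  exact ((CxOX.extZeroAdj U.ι).homEquiv_unit _ _ _).symm.trans (Equiv.apply_symm_apply _ _)

theorem stalk_ext_of_notMem (M : X.Modules) {U : X.Opens} (s : Γ(M, U)) {x : X} (hx : x ∉ U) :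
    (Groth.L00.Stk.F X x).map (ext M U s) = 0 :=
  (Groth.L29.DC.ExtZero.isZero_stalk U.ι (by rw [Scheme.Opens.range_ι]; exact hx) _).eq_of_src _ _

/-- the section on a smaller image -/
def res0 (M : X.Modules) (U : X.Opens) (s : Γ(M, U)) (W : (U : Scheme.{u}).Opens) : Γ(M, U.ι ''ᵁ W) :=
  M.presheaf.map (homOfLE (show U.ι ''ᵁ W ≤ U from (U.ι.image_mono le_top).trans U.ι_image_top.le)).op s

theorem range_stalk_ext (M : X.Modules) {U : X.Opens} (s : Γ(M, U)) {x : X} (hx : x ∈ U) :
    LinearMap.range ((Groth.L00.Stk.F X x).map (ext M U s)).hom =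
      Submodule.span (X.presheaf.stalk x) {M.presheaf.germ U x hx s} := by
  set g := ext M U s with hg
  have happ : ∀ (W : (U : Scheme.{u}).Opens) (r : Γ((U : Scheme.{u}), W)),
      g.app (U.ι ''ᵁ W) (((CxOX.extZeroAdj U.ι).unit.app (Coh.structureModule (U : Scheme.{u}))).app W r) =
        ((U.ι.appIso W).inv r) • res0 M U s W := by
    intro W r
    have h := congr($(ext_fac M U s).app W r)
    refine h.trans ((Groth.L16.homOfSection_app _ _ _ _).trans ?_)
    show ((U.ι.appIso W).inv r) • (show Γ(M, U.ι ''ᵁ W) from M.presheaf.map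
      (homOfLE (U.ι.image_mono (le_top : W ≤ ⊤))).op (sec0 M U s)) = _
    rw [show res0 M U s W = M.presheaf.map (homOfLE (U.ι.image_mono (le_top : W ≤ ⊤))).op (sec0 M U s) from by
      unfold sec0 res0
      rw [← ConcreteCategory.comp_apply, ← Functor.map_comp]
      rfl]
  refine le_antisymm ?_ ?_
  · rintro _ ⟨a, rfl⟩
    obtain ⟨W, hxW, w, rfl⟩ := TopCat.Presheaf.exists_germ_eq (EZ U).presheaf a
    let W0 : (U : Scheme.{u}).Opens := U.ι ⁻¹ᵁ W
    have hx0 : x ∈ U.ι ''ᵁ W0 := by
      rw [Scheme.Hom.image_preimage_eq_opensRange_inf, Scheme.Opens.opensRange_ι]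
      exact ⟨hx, hxW⟩
    have hb : Function.Bijective (((CxOX.extZeroAdj U.ι).unit.app (Coh.structureModule (U : Scheme.{u}))).app W0) :=
      (ConcreteCategory.isIso_iff_bijective _).1 inferInstance
    obtain ⟨r, hr⟩ := hb.2 ((EZ U).presheaf.map (homOfLE (U.ι.image_preimage_le W)).op w)
    have h1 := happ W0 r
    rw [hr] at h1
    have h2 : ((Groth.L00.Stk.F X x).map g).hom ((EZ U).presheaf.germ W x hxW w) =
        M.presheaf.germ (U.ι ''ᵁ W0) x hx0 (g.app _ ((EZ U).presheaf.map (homOfLE (U.ι.image_preimage_le W)).op w)) := by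
      rw [← (EZ U).presheaf.germ_res_apply (homOfLE (U.ι.image_preimage_le W)) x hx0 w]
      exact Groth.L21.Mod.stalkF_map_germ g _ x hx0 _
    rw [h2]
    erw [h1]
    rw [Groth.L20.ModStalk.germ_smul, res0, TopCat.Presheaf.germ_res_apply]
    exact Submodule.smul_mem _ _ (Submodule.subset_span rfl)
  · rw [Submodule.span_le, Set.singleton_subset_iff]
    have hx0 : x ∈ U.ι ''ᵁ ⊤ := by rw [Scheme.Opens.ι_image_top]; exact hx
    let e1 : Γ(EZ U, U.ι ''ᵁ ⊤) :=
      ((CxOX.extZeroAdj U.ι).unit.app (Coh.structureModule (U : Scheme.{u}))).app ⊤ (1 : Γ((U : Scheme.{u}), ⊤))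
    refine ⟨(EZ U).presheaf.germ _ x hx0 e1, ?_⟩
    refine (Groth.L21.Mod.stalkF_map_germ g _ x hx0 e1).trans ?_
    erw [happ ⊤ 1]
    rw [map_one, one_smul, res0, TopCat.Presheaf.germ_res_apply]

section Fam

variable {ι : Type u} {U : ι → X.Opens} {M : X.Modules}

/-- the map of a family of sections -/
def φ (σ : ∀ i, Γ(M, U i)) : (∐ fun i => EZ (U i)) ⟶ M := Sigma.desc fun i => ext M (U i) (σ i)

theorem range_stalk_φ (σ : ∀ i, Γ(M, U i)) (x : X) :
    LinearMap.range ((Groth.L00.Stk.F X x).map (φ σ)).hom =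
      Submodule.span (X.presheaf.stalk x) {g | ∃ (i : ι) (h : x ∈ U i), g = M.presheaf.germ (U i) x h (σ i)} := by
  refine le_antisymm ?_ ?_
  · let S : Submodule (X.presheaf.stalk x) (M.presheaf.stalk x) :=
      Submodule.span (X.presheaf.stalk x) {g | ∃ (i : ι) (h : x ∈ U i), g = M.presheaf.germ (U i) x h (σ i)}
    let q : (Groth.L00.Stk.F X x).obj M ⟶ ModuleCat.of (X.presheaf.stalk x) (M.presheaf.stalk x ⧸ S) :=
      ModuleCat.ofHom S.mkQ
    have h : (Groth.L00.Stk.F X x).map (φ σ) ≫ q = 0 := by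
      refine (isColimitOfPreserves (Groth.L00.Stk.F X x) (coproductIsCoproduct fun i => EZ (U i))).hom_ext
        fun k => ?_
      rw [comp_zero, Functor.mapCocone_ι_app, ← Category.assoc, ← Functor.map_comp]
      rw [show (Cofan.mk _ (Sigma.ι fun i => EZ (U i))).ι.app k ≫ φ σ = ext M (U k.as) (σ k.as) from Sigma.ι_desc _ _]
      by_cases hk : x ∈ U k.as
      · refine ModuleCat.hom_ext (LinearMap.ext fun a => (Submodule.Quotient.mk_eq_zero S).2 ?_)
        have ha := (range_stalk_ext M (σ k.as) hk).le ⟨a, rfl⟩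
        exact Submodule.span_mono (by
          intro g hg
          exact ⟨k.as, hk, hg⟩) ha
      · rw [stalk_ext_of_notMem M (σ k.as) hk, zero_comp]
    rintro _ ⟨a, rfl⟩
    exact (Submodule.Quotient.mk_eq_zero S).1 (LinearMap.congr_fun (congrArg ModuleCat.Hom.hom h) a)
  · rw [Submodule.span_le]
    rintro _ ⟨i, h, rfl⟩
    obtain ⟨a, ha⟩ := (range_stalk_ext M (σ i) h).ge (Submodule.subset_span rfl)
    refine ⟨((Groth.L00.Stk.F X x).map (Sigma.ι (fun i => EZ (U i)) i)).hom a, ?_⟩
    rw [← ha, ← show Sigma.ι (fun i => EZ (U i)) i ≫ φ σ = ext M (U i) (σ i) from Sigma.ι_desc _ _,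
      Functor.map_comp]
    rfl

end Fam

/-- restriction kills a map whose stalks land in the span -/
theorem comp_cokernel_π_eq_zero {P Q M : X.Modules} (V : X.Opens) (a : P ⟶ M) (b : Q ⟶ M)
    (h : ∀ x ∈ V, LinearMap.range ((Groth.L00.Stk.F X x).map a).hom ≤ LinearMap.range ((Groth.L00.Stk.F X x).map b).hom) :
    (Scheme.Modules.restrictFunctor V.ι).map (a ≫ cokernel.π b) = 0 := by
  refine (Groth.L21.Mod.eq_zero_iff_stalk _).2 fun y => ?_
  have h0 : (Groth.L00.Stk.F X y.1).map (a ≫ cokernel.π b) = 0 := by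
    refine ModuleCat.hom_ext (LinearMap.ext fun v => ?_)
    obtain ⟨w, hw⟩ := h y.1 y.2 ⟨v, rfl⟩
    rw [Functor.map_comp]
    show ((Groth.L00.Stk.F X y.1).map (cokernel.π b)).hom (((Groth.L00.Stk.F X y.1).map a).hom v) = 0
    rw [← hw]
    have hb : (Groth.L00.Stk.F X y.1).map b ≫ (Groth.L00.Stk.F X y.1).map (cokernel.π b) = 0 := by
      rw [← Functor.map_comp, cokernel.condition, Functor.map_zero]
    exact LinearMap.congr_fun (congrArg ModuleCat.Hom.hom hb) w
  have h1 : (Groth.L21.Mod.stalkF X y.1).map (a ≫ cokernel.π b) = 0 :=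
    AddCommGrpCat.hom_ext (AddMonoidHom.ext fun v => LinearMap.congr_fun (congrArg ModuleCat.Hom.hom h0) v)
  rw [Groth.L21.Mod.restrict_stalk_map]
  erw [h1]
  simp

section Closure

variable {F : X.Modules}

theorem exists_mult [Coh.IsQCoh F] (U : X.affineOpens) {x : X} (hx : x ∈ U.1) (g : F.presheaf.stalk x) :
    ∃ m : Γ(F, U.1), g ∈ Submodule.span (X.presheaf.stalk x) {F.presheaf.germ U.1 x hx m} := by
  letI := Groth.L20.ModStalk.stalkModule F hx
  letI := X.presheaf.algebra_section_stalk (U := U.1) ⟨x, hx⟩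
  haveI := U.2.isLocalization_stalk ⟨x, hx⟩
  haveI := Groth.L20.ModStalk.isLocalizedModule_germ F U.2 hx
  obtain ⟨⟨m, s⟩, hms⟩ := IsLocalizedModule.surj (U.2.primeIdealOf ⟨x, hx⟩).asIdeal.primeCompl
    (Groth.L20.ModStalk.germₗ F hx) g
  have hms' : X.presheaf.germ U.1 x hx (s : Γ(X, U.1)) • g = F.presheaf.germ U.1 x hx m := hms
  obtain ⟨c, hc⟩ := (IsLocalization.map_units (X.presheaf.stalk x) s).exists_left_inv
  refine ⟨m, Submodule.mem_span_singleton.2 ⟨c, ?_⟩⟩
  rw [← hms', smul_smul, show c * X.presheaf.germ U.1 x hx (s : Γ(X, U.1)) = 1 from hc, one_smul]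

variable (seed : ∀ U : X.affineOpens, Γ(F, U.1)) [Coh.IsQCoh F]

open scoped Classical in
/-- the closure of `seed` under moving germs between affine opens -/
def val : List (X.affineOpens × X) → ∀ U : X.affineOpens, Γ(F, U.1)
  | [], U => seed U
  | (V, x) :: k, U =>
      if h : x ∈ U.1 ∧ x ∈ V.1 then (exists_mult U h.1 (F.presheaf.germ V.1 x h.2 (val k V))).choose else 0

theorem germ_val_mem (V U : X.affineOpens) (k : List (X.affineOpens × X)) {x : X} (hxU : x ∈ U.1) (hxV : x ∈ V.1) :
    F.presheaf.germ V.1 x hxV (val seed k V) ∈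
      Submodule.span (X.presheaf.stalk x) {F.presheaf.germ U.1 x hxU (val seed ((V, x) :: k) U)} := by
  have h : x ∈ U.1 ∧ x ∈ V.1 := ⟨hxU, hxV⟩
  simp only [val, dif_pos h]
  exact (exists_mult U h.1 (F.presheaf.germ V.1 x h.2 (val seed k V))).choose_spec

variable (X) in
/-- the index set -/
abbrev Idx : Type u := X.affineOpens × List (X.affineOpens × X)

variable (X) in
/-- the source of all small submodules -/
def P : X.Modules := ∐ fun p : Idx X => EZ p.1.1

/-- the map of the closed family -/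
def Φ : P X ⟶ F := φ fun p : Idx X => val seed p.2 p.1

/-- its part on one affine open -/
def Ψ (V : X.affineOpens) : (∐ fun _ : List (X.affineOpens × X) => EZ V.1) ⟶ F :=
  φ fun k => val seed k V

theorem range_Φ_eq (V : X.affineOpens) {x : X} (hx : x ∈ V.1) :
    LinearMap.range ((Groth.L00.Stk.F X x).map (Φ seed)).hom = LinearMap.range ((Groth.L00.Stk.F X x).map (Ψ seed V)).hom := by
  rw [Φ, Ψ]
  erw [range_stalk_φ, range_stalk_φ]
  refine le_antisymm (Submodule.span_le.2 ?_) (Submodule.span_mono ?_)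
  · rintro _ ⟨⟨W, k⟩, hW, rfl⟩
    exact Submodule.span_mono (by rintro g rfl; exact ⟨(W, x) :: k, hx, rfl⟩) (germ_val_mem seed W V k hx hW)
  · rintro _ ⟨k, h, rfl⟩
    exact ⟨(V, k), h, rfl⟩

theorem isQCoh_cokernel_Φ : Coh.IsQCoh (cokernel (Φ seed)) := by
  refine Groth.L00.AlgQCoh.isQCoh_of_cover fun x => ?_
  obtain ⟨_, ⟨(V : X.Opens), hV, rfl⟩, hxV, -⟩ :=
    X.isBasis_affineOpens.exists_subset_of_mem_open (Set.mem_univ x) isOpen_univ
  replace hV : IsAffineOpen V := hV
  let r := Scheme.Modules.restrictFunctor V.ι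
  let a := Φ seed
  let b := Ψ seed ⟨V, hV⟩
  refine ⟨V, hxV, Groth.L00.AlgQCoh.qcohIso (M := r.obj (cokernel b)) ?_ ?_⟩
  · haveI : Epi (r.map (cokernel.π a)) := inferInstance
    haveI : Epi (r.map (cokernel.π b)) := inferInstance
    have w1 : r.map a ≫ r.map (cokernel.π b) = 0 := by
      rw [← Functor.map_comp]
      exact comp_cokernel_π_eq_zero V a b fun y hy => (range_Φ_eq seed ⟨V, hV⟩ hy).le
    have w2 : r.map b ≫ r.map (cokernel.π a) = 0 := by
      rw [← Functor.map_comp]
      exact comp_cokernel_π_eq_zero V b a fun y hy => (range_Φ_eq seed ⟨V, hV⟩ hy).ge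
    let ha := isColimitCoforkMapOfIsColimit' r (cokernel.condition a) (cokernelIsCokernel a)
    let hb := isColimitCoforkMapOfIsColimit' r (cokernel.condition b) (cokernelIsCokernel b)
    let f := hb.desc (CokernelCofork.ofπ (r.map (cokernel.π a)) w2)
    let g := ha.desc (CokernelCofork.ofπ (r.map (cokernel.π b)) w1)
    have hf : r.map (cokernel.π b) ≫ f = r.map (cokernel.π a) := Cofork.IsColimit.π_desc hb
    have hg : r.map (cokernel.π a) ≫ g = r.map (cokernel.π b) := Cofork.IsColimit.π_desc ha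
    exact { hom := f
            inv := g
            hom_inv_id := by rw [← cancel_epi (r.map (cokernel.π b)), reassoc_of% hf, hg]; exact (Category.comp_id _).symm
            inv_hom_id := by rw [← cancel_epi (r.map (cokernel.π a)), reassoc_of% hg, hf]; exact (Category.comp_id _).symm }
  · haveI : PreservesColimitsOfSize.{u, u} r :=
      (Scheme.Modules.restrictAdjunction V.ι).leftAdjoint_preservesColimits
    have hsrc : Coh.IsQCoh (r.obj (∐ fun _ : List (X.affineOpens × X) => EZ V)) :=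
      Groth.L00.AlgQCoh.qcohIso (PreservesCoproduct.iso r _).symm
        (Groth.L00.AlgQCoh.isQCoh_sigma _ fun _ => Groth.L00.AlgQCoh.qcohIso
          ((Groth.L29.DC.ExtZero.unitIso V.ι).app (Coh.structureModule _))
          (Groth.L19.Conormal.isQCoh_structureModule _))
    have htgt : Coh.IsQCoh (r.obj F) := Scheme.Modules.isQuasicoherent_restrictFunctor _ F
    exact Groth.L00.AlgQCoh.qcohIso (PreservesCokernel.iso r b).symm
      (Groth.L00.AlgQCoh.isQCoh_kernel_cokernel _ hsrc htgt).2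

/-- the small submodule -/
abbrev Gab : X.Modules := Abelian.image (Φ seed)

theorem isQCoh_Gab : Coh.IsQCoh (Gab seed) :=
  (Groth.L00.AlgQCoh.isQCoh_kernel_cokernel _ inferInstance (isQCoh_cokernel_Φ seed)).1

/-- the seeds are sections of the small submodule -/
theorem ext_seed (U : X.affineOpens) :
    (Sigma.ι (fun p : Idx X => EZ p.1.1) (U, []) ≫ Abelian.factorThruImage (Φ seed)) ≫ Abelian.image.ι (Φ seed) =
      ext F U.1 (seed U) := by
  rw [Category.assoc, Abelian.image.fac]
  exact Sigma.ι_desc _ _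

end Closure

end Groth.L17.QCohGab
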